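import Groth.Agent.ResProp.EF.Grp
import Groth.Agent.ResProp.EF.K83.FinDatum

/-!
# Shift data of a one step extension `E' = V^♯ × E → E`, and the statement `FIN(E) ⟹ FIN(E')`

Everything over one base ring `R`; `ι : B → B'` is the map of Hopf algebras `O(E) → O(E')`.
`helper902`: `OneStep ⟹ ShiftData` (over `k = ℤ_(p)`); base change of `ShiftData` to `R`; `helper350`: `StmtFinStep`.
-/

set_option autoImplicit false

universe u

open TensorProduct

noncomputable section

namespace Groth.Agent.ResProp.EF.K350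

open Groth.Agent.ResProp.EF.K83

section

variable (R : Type u) [CommRing R] (B' : Type u) [CommRing B'] [HopfAlgebra R B']

/-- the operator `(id ⊗ lam) ∘ Δ` on the ring `B'` (the derivation by `lam` in the convention of right comodules) -/
def opR (lam : B' →ₗ[R] R) : B' →ₗ[R] B' :=
  (TensorProduct.rid R B').toLinearMap ∘ₗ lam.lTensor B' ∘ₗ Coalgebra.comul (R := R) (A := B')

end

/-- shift data: `B'` is free over `B` on divided power monomials in `r` variables, and the `r` operators
`opR (lam i)` are the shifts `x^[a] ↦ x^[a - e_i]`. -/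
structure ShiftData (R : Type u) [CommRing R] (B B' : Type u) [CommRing B] [HopfAlgebra R B]
    [CommRing B'] [HopfAlgebra R B'] (ι : B →ₐc[R] B') where
  r : ℕ
  lam : Fin r → (B' →ₗ[R] R)
  lam_mul : ∀ i (a b : B'), lam i (a * b) =
    Coalgebra.counit (R := R) a * lam i b + Coalgebra.counit (R := R) b * lam i a
  lam_ι : ∀ i (b : B), lam i (ι b) = 0
  e : B' ≃ₗ[R] ((Fin r →₀ ℕ) →₀ B)
  e_mul : ∀ (b : B) (f : B') (a : Fin r →₀ ℕ), e (ι b * f) a = b * e f a
  e_one : e 1 = Finsupp.single 0 1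
  e_op : ∀ i (f : B') (a : Fin r →₀ ℕ), e (opR R B' (lam i) f) a = e f (a + Finsupp.single i 1)

/-- `helper902`: a one step extension has shift data. -/
def StmtOneStepShift : Prop := ∀ (p : ℕ) (k : Type u) [CommRing k] [Grp.IsLb p k] (E : Grp.Gp k)
    (S : Grp.OneStep E), Nonempty (ShiftData k E.O S.E'.O S.ι)

/-- base change of shift data -/
def StmtShiftBase : Prop := ∀ (k R : Type u) [CommRing k] [CommRing R] [Algebra k R] (B B' : Type u)
    [CommRing B] [HopfAlgebra k B] [CommRing B'] [HopfAlgebra k B'] (ι : B →ₐc[k] B'),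
    ShiftData k B B' ι → ∃ ιR : (R ⊗[k] B) →ₐc[R] (R ⊗[k] B'),
      (∀ b, ιR b = (ι : B →ₐ[k] B').toLinearMap.lTensor R b) ∧
      Nonempty (ShiftData R (R ⊗[k] B) (R ⊗[k] B') ιR)

/-- `helper350`: finiteness and vanishing pass from `E` to `E'`. -/
def StmtFinStep : Prop :=
  ∀ (R : Type u) [CommRing R] [IsNoetherianRing R] (B B' : Type u) [CommRing B] [HopfAlgebra R B]
    [CommRing B'] [HopfAlgebra R B'] [Module.Flat R B] [Module.Flat R B'] (ι : B →ₐc[R] B')
    (S : ShiftData R B B' ι) (D : Type u) [CommRing D] [Algebra R D] [IsNoetherianRing D]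
    (c : CoAlg R B D) (c' : CoAlg R B' D)
    (_ : ∀ x : D, c'.ρ x = (ι : B →ₐ[R] B').toLinearMap.lTensor D (c.ρ x)) (r₀ : ℕ),
    FinOut R B D c r₀ → FinOut R B' D c' (r₀ + S.r)

end Groth.Agent.ResProp.EF.K350
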