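import Groth.Agent.ResProp.EF.K350.ShiftData
import Groth.Agent.Hoch.K915.DSq
import Groth.Agent.Hoch.K915.Basic
import Mathlib.RingTheory.TensorProduct.Maps

/-!
# Twisted actions of a comodule algebra on `M ⊗ B`
-/

set_option autoImplicit false

universe u

open TensorProduct

noncomputable section

namespace Groth.Agent.ResProp.EF.K350

open Groth.Agent.ResProp.EF.K83

variable {R : Type u} [CommRing R] {B : Type u} [CommRing B] [HopfAlgebra R B]
variable {D : Type u} [CommRing D] [Algebra R D]

/-- the action of `D ⊗ B` on `M ⊗ B` -/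
def actT (B : Type u) [CommRing B] [Algebra R B] {M : Type u} [AddCommGroup M] [Module R M]
    (φ : D →ₐ[R] Module.End R M) : (D ⊗[R] B) →ₐ[R] Module.End R (M ⊗[R] B) :=
  (Module.endTensorEndAlgHom (R := R) (S := R) (A := R) (M := M) (N := B)).comp
    (Algebra.TensorProduct.map φ (Algebra.lmul R B))

section act

variable {M M' : Type u} [AddCommGroup M] [Module R M] [AddCommGroup M'] [Module R M']

@[simp] theorem actT_tmul (φ : D →ₐ[R] Module.End R M) (x : D) (y : B) (m : M) (b : B) :
    actT B φ (x ⊗ₜ[R] y) (m ⊗ₜ[R] b) = φ x m ⊗ₜ[R] (y * b) := by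
  simp [actT, Module.endTensorEndAlgHom_apply]

/-- the twisted action of `D` on `M ⊗ B` -/
def tw (c : CoAlg R B D) (φ : D →ₐ[R] Module.End R M) : D →ₐ[R] Module.End R (M ⊗[R] B) :=
  (actT B φ).comp c.ρ

theorem tw_apply (c : CoAlg R B D) (φ : D →ₐ[R] Module.End R M) (d : D) (x : M ⊗[R] B) :
    tw c φ d x = actT B φ (c.ρ d) x := rfl

/-- `f` is linear for the actions -/
def IsLin (φ : D →ₐ[R] Module.End R M) (φ' : D →ₐ[R] Module.End R M') (f : M →ₗ[R] M') : Prop :=
  ∀ (d : D) (m : M), f (φ d m) = φ' d (f m)

theorem actT_rTensor {φ : D →ₐ[R] Module.End R M} {φ' : D →ₐ[R] Module.End R M'} {f : M →ₗ[R] M'}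
    (hf : IsLin φ φ' f) (t : D ⊗[R] B) (x : M ⊗[R] B) :
    f.rTensor B (actT B φ t x) = actT B φ' t (f.rTensor B x) := by
  induction t using TensorProduct.induction_on with
  | zero => simp
  | add t t' h h' => simp only [map_add, LinearMap.add_apply, h, h']
  | tmul d b =>
    induction x using TensorProduct.induction_on with
    | zero => simp
    | add x x' h h' => simp only [map_add, h, h']
    | tmul m b' => rw [actT_tmul, LinearMap.rTensor_tmul, LinearMap.rTensor_tmul, actT_tmul, hf]

theorem IsLin.rTensor (c : CoAlg R B D) {φ : D →ₐ[R] Module.End R M} {φ' : D →ₐ[R] Module.End R M'}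
    {f : M →ₗ[R] M'} (hf : IsLin φ φ' f) : IsLin (tw c φ) (tw c φ') (f.rTensor B) :=
  fun d x => actT_rTensor hf _ x

theorem IsLin.add {φ : D →ₐ[R] Module.End R M} {φ' : D →ₐ[R] Module.End R M'}
    {f g : M →ₗ[R] M'} (hf : IsLin φ φ' f) (hg : IsLin φ φ' g) : IsLin φ φ' (f + g) := fun d x => by
  rw [LinearMap.add_apply, LinearMap.add_apply, hf, hg, map_add]

theorem IsLin.smul {φ : D →ₐ[R] Module.End R M} {φ' : D →ₐ[R] Module.End R M'}
    {f : M →ₗ[R] M'} (hf : IsLin φ φ' f) (r : R) : IsLin φ φ' (r • f) := fun d x => by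
  rw [LinearMap.smul_apply, LinearMap.smul_apply, hf, map_smul]

/-- the action of `(D ⊗ B) ⊗ B` on `(M ⊗ B) ⊗ B` -/
theorem actT_tw (c : CoAlg R B D) (φ : D →ₐ[R] Module.End R M) (s : D ⊗[R] B) (y : (M ⊗[R] B) ⊗[R] B) :
    actT B (tw c φ) s y =
      actT B (actT B φ) (c.ρ.toLinearMap.rTensor B s) y := by
  induction s using TensorProduct.induction_on with
  | zero => simp
  | add t t' h h' => simp only [map_add, LinearMap.add_apply, h, h']
  | tmul d b =>
    induction y using TensorProduct.induction_on with
    | zero => simp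
    | add x x' h h' => simp only [map_add, h, h']
    | tmul m b' =>
      rw [actT_tmul, LinearMap.rTensor_tmul, actT_tmul]
      rfl

theorem actT_assoc (φ : D →ₐ[R] Module.End R M) (d : D) (m : M) (u v : B ⊗[R] B) :
    actT B (actT B φ) ((TensorProduct.assoc R D B B).symm (d ⊗ₜ[R] u))
      ((TensorProduct.assoc R M B B).symm (m ⊗ₜ[R] v)) =
      (TensorProduct.assoc R M B B).symm (φ d m ⊗ₜ[R] (u * v)) := by
  induction u using TensorProduct.induction_on with
  | zero => simp
  | add t t' h h' => simp only [TensorProduct.tmul_add, map_add, LinearMap.add_apply, h, h', add_mul]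
  | tmul b b' =>
    induction v using TensorProduct.induction_on with
    | zero => simp
    | add x x' h h' => simp only [TensorProduct.tmul_add, map_add, h, h', mul_add]
    | tmul a a' => simp

theorem coactAux_actT (φ : D →ₐ[R] Module.End R M) (t : D ⊗[R] B) (x : M ⊗[R] B) :
    Hoch.Ind.coactAux R B M (actT B φ t x) =
      actT B (actT B φ) ((TensorProduct.assoc R D B B).symm
        ((Coalgebra.comul (R := R) (A := B)).lTensor D t)) (Hoch.Ind.coactAux R B M x) := by
  induction t using TensorProduct.induction_on with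
  | zero => simp
  | add t t' h h' => simp only [map_add, LinearMap.add_apply, h, h']
  | tmul d b =>
    induction x using TensorProduct.induction_on with
    | zero => simp
    | add x x' h h' => simp only [map_add, h, h']
    | tmul m b' =>
      rw [actT_tmul, Hoch.Ind.coactAux_tmul, Hoch.Ind.coactAux_tmul, LinearMap.lTensor_tmul, actT_assoc,
        Bialgebra.comul_mul]

/-- the comultiplication of the last factor is linear for the twisted actions -/
theorem isLin_coactAux (c : CoAlg R B D) (φ : D →ₐ[R] Module.End R M) :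
    IsLin (tw c φ) (tw c (tw c φ)) (Hoch.Ind.coactAux R B M) := by
  intro d x
  rw [tw_apply, tw_apply, actT_tw, coactAux_actT]
  congr 2
  rw [LinearEquiv.symm_apply_eq]
  exact (c.coassoc d).symm

/-- a type synonym carrying the action -/
def Act (_φ : D →ₐ[R] Module.End R M) : Type u := M

instance (φ : D →ₐ[R] Module.End R M) : AddCommGroup (Act φ) := inferInstanceAs (AddCommGroup M)
instance (φ : D →ₐ[R] Module.End R M) : Module R (Act φ) := inferInstanceAs (Module R M)
instance (φ : D →ₐ[R] Module.End R M) : Module D (Act φ) :=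
  Module.compHom (R := Module.End R M) M φ.toRingHom

theorem Act.smul_def (φ : D →ₐ[R] Module.End R M) (d : D) (x : Act φ) : d • x = φ d x := rfl

instance (φ : D →ₐ[R] Module.End R M) : IsScalarTower R D (Act φ) where
  smul_assoc r d x := by
    rw [Act.smul_def, Act.smul_def, map_smul]; rfl

/-- a linear map for the actions -/
def IsLin.toD {φ : D →ₐ[R] Module.End R M} {φ' : D →ₐ[R] Module.End R M'}
    {f : M →ₗ[R] M'} (hf : IsLin φ φ' f) : Act φ →ₗ[D] Act φ' where
  toFun := f
  map_add' := f.map_add
  map_smul' := hf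

@[simp] theorem IsLin.toD_apply {φ : D →ₐ[R] Module.End R M} {φ' : D →ₐ[R] Module.End R M'}
    {f : M →ₗ[R] M'} (hf : IsLin φ φ' f) (x : M) : hf.toD (x : Act φ) = f x := rfl

end act

/-- for an honest `D`-module the action on `N ⊗ B` is the one of `IsHopfMod` -/
theorem map₂_eq_actT (N : Type u) [AddCommGroup N] [Module R N] [Module D N] [IsScalarTower R D N]
    (t : D ⊗[R] B) (x : N ⊗[R] B) :
    TensorProduct.map₂ (Algebra.lsmul R R N).toLinearMap (LinearMap.mul R B) t x =
      actT B (Algebra.lsmul R R N) t x := by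
  induction t using TensorProduct.induction_on with
  | zero => simp
  | add t t' h h' => simp only [map_add, LinearMap.add_apply, h, h']
  | tmul d b =>
    induction x using TensorProduct.induction_on with
    | zero => simp
    | add x x' h h' => simp only [map_add, h, h']
    | tmul m b' => simp

end Groth.Agent.ResProp.EF.K350
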