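import Groth.Agent.ResProp.EF.K350.KFin
import Groth.Agent.ResProp.EF.K981.HopfSub
import Groth.Agent.ResProp.EF.K114.ShiftT
import Groth.Agent.ResProp.EF.K601.Cofree
import Groth.Agent.ResProp.EF.K416.Cobar
import Groth.Agent.ResProp.EF.K850.DimShift

/-!
# `FIN(E) ⟹ FIN(E')`: assembly
-/

set_option autoImplicit false
set_option linter.unusedSectionVars false

universe u

open TensorProduct

noncomputable section

namespace Groth.Agent.ResProp.EF.K350

open Groth.Agent.ResProp.EF.K83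
open Groth.Agent.ResProp.EF.K601
open Groth.Agent.ResProp.EF.K981.HopfSub
open Groth.Agent.ResProp.EF.K416 (SES)

section general

variable {A : Type u} [CommRing A] {X : Type u} [AddCommGroup X] [Module A X]

theorem finite_quot [IsNoetherianRing A] (Z B T : Submodule A X) (hT : T.FG) (h : Z ≤ T ⊔ B) :
    Module.Finite A (Z ⧸ B.comap Z.subtype) := by
  let f : (Z ⧸ B.comap Z.subtype) →ₗ[A] X ⧸ B := Submodule.mapQ _ B Z.subtype le_rfl
  have hf : Function.Injective f := by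
    rw [injective_iff_map_eq_zero]
    intro x hx
    obtain ⟨z, rfl⟩ := Submodule.mkQ_surjective _ x
    have hx' : Submodule.Quotient.mk (p := B) (z : X) = 0 := hx
    rw [Submodule.Quotient.mk_eq_zero] at hx'
    exact (Submodule.Quotient.mk_eq_zero _).2 hx'
  have hTn : IsNoetherian A (T.map B.mkQ) := isNoetherian_of_fg_of_noetherian _ (hT.map _)
  have hr : LinearMap.range f ≤ T.map B.mkQ := by
    rintro _ ⟨x, rfl⟩
    obtain ⟨z, rfl⟩ := Submodule.mkQ_surjective _ x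
    obtain ⟨t, ht, b, hb, htb⟩ := Submodule.mem_sup.1 (h z.2)
    refine ⟨t, ht, ?_⟩
    change B.mkQ t = B.mkQ (z : X)
    have h0 : B.mkQ b = 0 := (Submodule.Quotient.mk_eq_zero B).2 hb
    rw [← htb, map_add, h0, add_zero]
  have h2 : IsNoetherian A (LinearMap.range f) := isNoetherian_of_le hr
  have h3 : Module.Finite A (LinearMap.range f) := inferInstance
  exact Module.Finite.of_injective (LinearMap.rangeRestrict f) (fun x y hxy => hf (congrArg Subtype.val hxy))

theorem subsingleton_quot (Z B : Submodule A X) (h : Z ≤ B) : Subsingleton (Z ⧸ B.comap Z.subtype) := by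
  rw [Submodule.Quotient.subsingleton_iff, eq_top_iff]
  rintro ⟨z, hz⟩ -
  exact h hz

end general

/-- `ShiftData ⟹ ShiftM` -/
theorem shiftM {R : Type u} [CommRing R] {B B' : Type u} [CommRing B] [HopfAlgebra R B]
    [CommRing B'] [HopfAlgebra R B'] {ι : B →ₐc[R] B'} (S : ShiftData R B B' ι) :
    ShiftM ι S.r (fun i => opR R B' (S.lam i)) where
  lin i b f := K114.opR_ι_mul S i b f
  comul i f := K114.comul_opR (S.lam i) f
  comm M _ _ i j x := K114.th_comm S M i j x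
  onto M _ _ i x hx := K114.th_onto S M i x hx
  ker M _ _ x hx := (K114.th_eq_zero_iff S M x).1 hx
  ker' M _ _ i y := K114.th_lTensor_ι S M i y
  inj M _ _ := K114.lTensor_ι_injective S M

section main

variable {R : Type u} [CommRing R] [IsNoetherianRing R] {B B' : Type u} [CommRing B] [HopfAlgebra R B]
  [CommRing B'] [HopfAlgebra R B'] [Module.Flat R B] {ι : B →ₐc[R] B'} {r : ℕ} {θ : Fin r → (B' →ₗ[R] B')}
variable {N : Type u} [AddCommGroup N] [Module R N] [HopfRep.Comod R B' N]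
variable {D : Type u} [CommRing D] [Algebra R D] {c : CoAlg R B D} {c' : CoAlg R B' D} [Module D N]
  [IsScalarTower R D N]
variable (hN : IsHopfMod c' N inferInstance)
  (hc : ∀ x : D, c'.ρ x = (ι : B →ₐ[R] B').toLinearMap.lTensor D (c.ρ x)) (S : ShiftM ι r θ)

/-- the comodule structure of `K n` -/
@[reducible] def coKN (n : ℕ) : HopfRep.Comod R B (KN N c c' n) := coK c (phi N c' n)

theorem dKD_hom (n : ℕ) : @Hoch.IsComodHom R _ B _ _ _ (KN N c c' n) _ _ (coKN n) (KN N c c' (n + 1)) _ _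
    (coKN (n + 1)) ((dKD hN hc S n).restrictScalars R) :=
  LinearMap.ext fun x => coactAux_dK ι N n x

theorem st_BdK (n : ℕ) : St (coKN n) (BdK hN hc S n) := by
  cases n with
  | zero => rw [st_iff_stable]; exact K981.Stable.bot _
  | succ n =>
    have h : St (D := D) (coKN (N := N) (c := c) (c' := c') n) (⊤ : Submodule D (KN N c c' n)) := by
      rw [st_iff_stable]; exact K981.Stable.top _
    exact h.map _ (dKD_hom hN hc S n)

theorem st_kerK (n : ℕ) : St (coKN n) (LinearMap.ker (dKD hN hc S n)) :=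
  st_ker _ (dKD_hom hN hc S n)

/-- cycles of `K` -/
abbrev ZK (n : ℕ) : Type u := LinearMap.ker (dKD hN hc S n)

/-- cohomology of `K` -/
abbrev HK (n : ℕ) : Type u := ZK hN hc S n ⧸ (BdK hN hc S n).comap (LinearMap.ker (dKD hN hc S n)).subtype

theorem BdK_le (n : ℕ) : BdK hN hc S n ≤ LinearMap.ker (dKD hN hc S n) := by
  cases n with
  | zero => exact bot_le
  | succ n =>
    rintro _ ⟨x, -, rfl⟩
    exact dK_dK ι N (fun _ => S.inj _) n x

@[reducible] def coZK (n : ℕ) : HopfRep.Comod R B (ZK hN hc S n) := sub (coKN n) _ (st_kerK hN hc S n)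

@[reducible] def coCK (n : ℕ) : HopfRep.Comod R B (BdK hN hc S n) := sub (coKN n) _ (st_BdK hN hc S n)

theorem st_HK (n : ℕ) : St (coZK hN hc S n) ((BdK hN hc S n).comap (LinearMap.ker (dKD hN hc S n)).subtype) :=
  (st_kerK hN hc S n).sub_comap (st_BdK hN hc S n)

@[reducible] def coHK (n : ℕ) : HopfRep.Comod R B (HK hN hc S n) := quo (coZK hN hc S n) _ (st_HK hN hc S n)

theorem isHopfMod_HK (n : ℕ) : IsHopfMod c (HK hN hc S n) (coHK hN hc S n) :=
  isHopfMod_quo (isHopfMod_sub (isHopfMod_coK c (phi N c' n)) _ (st_kerK hN hc S n)) _ (st_HK hN hc S n)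

/-- `K n → C (n + 1)` -/
def pK (n : ℕ) : KN N c c' n →ₗ[D] BdK hN hc S (n + 1) :=
  (dKD hN hc S n).codRestrict _ fun x => ⟨x, trivial, rfl⟩

/-- `C n → Z n` -/
def jK (n : ℕ) : BdK hN hc S n →ₗ[D] ZK hN hc S n := (BdK hN hc S n).subtype.codRestrict _ fun x => BdK_le hN hc S n x.2

/-- `Z n → K n` -/
def iKR (n : ℕ) : ZK hN hc S n →ₗ[R] KN N c c' n := (LinearMap.ker (dKD hN hc S n)).subtype.restrictScalars R

def pKR (n : ℕ) : KN N c c' n →ₗ[R] BdK hN hc S (n + 1) := (pK hN hc S n).restrictScalars R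

def jKR (n : ℕ) : BdK hN hc S n →ₗ[R] ZK hN hc S n := (jK hN hc S n).restrictScalars R

def qKR (n : ℕ) : ZK hN hc S n →ₗ[R] HK hN hc S n :=
  ((BdK hN hc S n).comap (LinearMap.ker (dKD hN hc S n)).subtype).mkQ.restrictScalars R

theorem s1 (n : ℕ) : @SES R B _ _ _ (ZK hN hc S n) (KN N c c' n) (BdK hN hc S (n + 1)) _ _ _ _ _ _
    (coZK hN hc S n) (coKN n) (coCK hN hc S (n + 1)) (iKR hN hc S n) (pKR hN hc S n) :=
  @SES.mk R B _ _ _ (ZK hN hc S n) (KN N c c' n) (BdK hN hc S (n + 1)) _ _ _ _ _ _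
    (coZK hN hc S n) (coKN n) (coCK hN hc S (n + 1)) (iKR hN hc S n) (pKR hN hc S n)
    (subtype_hom (coKN n) _ (st_kerK hN hc S n))
    (codRestrict_hom (dKD hN hc S n) (dKD_hom hN hc S n) (st_BdK hN hc S (n + 1)) _)
    Subtype.val_injective
    (by
      rintro ⟨_, x, -, rfl⟩
      exact ⟨x, rfl⟩)
    (fun x => by
      constructor
      · intro hx
        exact ⟨⟨x, congrArg Subtype.val hx⟩, rfl⟩
      · rintro ⟨y, rfl⟩
        exact Subtype.ext y.2)

theorem jKR_hom (n : ℕ) : @Hoch.IsComodHom R _ B _ _ _ (BdK hN hc S n) _ _ (coCK hN hc S n) (ZK hN hc S n) _ _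
    (coZK hN hc S n) (jKR hN hc S n) :=
  codRestrict_hom (BdK hN hc S n).subtype (subtype_hom (coKN n) _ (st_BdK hN hc S n)) (st_kerK hN hc S n)
    fun x => BdK_le hN hc S n x.2

theorem qKR_hom (n : ℕ) : @Hoch.IsComodHom R _ B _ _ _ (ZK hN hc S n) _ _ (coZK hN hc S n) (HK hN hc S n) _ _
    (coHK hN hc S n) (qKR hN hc S n) :=
  mkQ_hom (coZK hN hc S n) _ (st_HK hN hc S n)

theorem jKR_coe (n : ℕ) (x : BdK hN hc S n) : ((jKR hN hc S n x : ZK hN hc S n) : KN N c c' n) = x := rfl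

theorem jKR_inj (n : ℕ) : Function.Injective (jKR hN hc S n) := by
  intro x y hxy
  apply Subtype.ext
  rw [← jKR_coe, ← jKR_coe, hxy]

theorem qKR_surj (n : ℕ) : Function.Surjective (qKR hN hc S n) := fun y => by
  obtain ⟨x, hx⟩ := Submodule.mkQ_surjective ((BdK hN hc S n).comap (LinearMap.ker (dKD hN hc S n)).subtype) y
  exact ⟨x, hx⟩

theorem qKR_eq_zero (n : ℕ) (x : ZK hN hc S n) : qKR hN hc S n x = 0 ↔ (x : KN N c c' n) ∈ BdK hN hc S n :=
  Submodule.Quotient.mk_eq_zero ((BdK hN hc S n).comap (LinearMap.ker (dKD hN hc S n)).subtype)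

theorem jqKR (n : ℕ) : Function.Exact (jKR hN hc S n) (qKR hN hc S n) := by
  intro x
  rw [qKR_eq_zero]
  constructor
  · intro hx
    exact ⟨⟨(x : KN N c c' n), hx⟩, Subtype.ext rfl⟩
  · rintro ⟨y, rfl⟩
    exact y.2

theorem s2 (n : ℕ) : @SES R B _ _ _ (BdK hN hc S n) (ZK hN hc S n) (HK hN hc S n) _ _ _ _ _ _
    (coCK hN hc S n) (coZK hN hc S n) (coHK hN hc S n) (jKR hN hc S n) (qKR hN hc S n) :=
  @SES.mk R B _ _ _ (BdK hN hc S n) (ZK hN hc S n) (HK hN hc S n) _ _ _ _ _ _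
    (coCK hN hc S n) (coZK hN hc S n) (coHK hN hc S n) (jKR hN hc S n) (qKR hN hc S n)
    (jKR_hom hN hc S n) (qKR_hom hN hc S n) (jKR_inj hN hc S n) (qKR_surj hN hc S n) (jqKR hN hc S n)

theorem acK (n m : ℕ) (hm : 0 < m) : Subsingleton (@Hoch.H R _ B _ _ (KN N c c' n) _ _ (coKN n) m) :=
  Cofree.subsingleton_H_ind R B (P R B' N n) m hm

/-- `m ↦ m ⊗ 1` -/
def uK (N : Type u) [AddCommGroup N] [Module R N] [HopfRep.Comod R B' N] [Module D N]
    [IsScalarTower R D N] (c : CoAlg R B D) (c' : CoAlg R B' D) (n : ℕ) : P R B' N n →ₗ[R] KN N c c' n :=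
  (TensorProduct.mk R (P R B' N n) B).flip 1

theorem uK_inj (n : ℕ) : Function.Injective (uK N c c' n) := Cofree.mk_one_injective R B (P R B' N n)

theorem uK_inv (n : ℕ) (x : KN N c c' n) : (coKN n).coact x = x ⊗ₜ[R] (1 : B) ↔ ∃ m, uK N c c' n m = x :=
  (Cofree.coactAux_eq_iff R B (P R B' N n) x).trans ⟨fun ⟨m, hm⟩ => ⟨m, hm.symm⟩, fun ⟨m, hm⟩ => ⟨m, hm.symm⟩⟩

theorem uK_d (n : ℕ) (m : P R B' N n) :
    iKR hN hc S (n + 1) (jKR hN hc S (n + 1) (pKR hN hc S n (uK N c c' n m))) =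
      uK N c c' (n + 1) (Hoch.d R B' N n m) := dK_tmul_one ι N n m

theorem Bd_eq_coboundaries (n : ℕ) :
    PD.Bd (I := fun n => P R B' N n) (fun n => Hoch.d R B' N n) (fun _ => ⊤) n = Hoch.coboundaries R B' N n := by
  cases n with
  | zero => rfl
  | succ n => exact Submodule.map_top _

include hN hc S in
theorem van (r₀ : ℕ) (h : FinOut R B D c r₀) (n : ℕ) (hn : r₀ + r < n) : Subsingleton (Hoch.H R B' N n) := by
  have h1 := @K850.ker_le R B _ _ _ _ (fun n => KN N c c' n) (fun n => ZK hN hc S n) (fun n => BdK hN hc S n)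
    (fun n => HK hN hc S n) _ _ (fun n => coKN n) _ _ (fun n => coZK hN hc S n) _ _ (fun n => coCK hN hc S n)
    _ _ (fun n => coHK hN hc S n) (fun n => iKR hN hc S n) (fun n => pKR hN hc S n) (fun n => jKR hN hc S n)
    (fun n => qKR hN hc S n) (fun n => P R B' N n) _ _ (fun n => Hoch.d R B' N n) (fun n => uK N c c' n)
    (s1 hN hc S) (s2 hN hc S) ⟨fun x y => Subtype.ext (((Submodule.mem_bot D).1 x.2).trans ((Submodule.mem_bot D).1 y.2).symm)⟩
    acK r₀ r (fun n m hm => (@h (HK hN hc S n) _ _ _ _ (coHK hN hc S n) (isHopfMod_HK hN hc S n)).1 m hm)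
    (fun n hn => subsingleton_quot _ _ (zeroK hN hc S n hn)) uK_inj uK_inv (uK_d hN hc S) n hn
  rw [Bd_eq_coboundaries] at h1
  exact subsingleton_quot _ _ h1

include hN hc S in
theorem fin (r₀ : ℕ) (h : FinOut R B D c r₀) [IsNoetherianRing D] [Module.Finite D N] (n : ℕ) :
    Module.Finite R (Hoch.H R B' N n) := by
  have hH : ∀ n, Module.Finite D (HK hN hc S n) := fun n => by
    obtain ⟨T, hT, h2⟩ := fgK hN hc S n
    exact finite_quot _ _ T hT h2
  obtain ⟨T, hT, h1⟩ := @K850.ker_fg R B _ _ _ _ _ (fun n => KN N c c' n) (fun n => ZK hN hc S n) (fun n => BdK hN hc S n)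
    (fun n => HK hN hc S n) _ _ (fun n => coKN n) _ _ (fun n => coZK hN hc S n) _ _ (fun n => coCK hN hc S n)
    _ _ (fun n => coHK hN hc S n) (fun n => iKR hN hc S n) (fun n => pKR hN hc S n) (fun n => jKR hN hc S n)
    (fun n => qKR hN hc S n) (fun n => P R B' N n) _ _ (fun n => Hoch.d R B' N n) (fun n => uK N c c' n)
    (s1 hN hc S) (s2 hN hc S) ⟨fun x y => Subtype.ext (((Submodule.mem_bot D).1 x.2).trans ((Submodule.mem_bot D).1 y.2).symm)⟩
    acK (fun n m => (@h (HK hN hc S n) _ _ _ _ (coHK hN hc S n) (isHopfMod_HK hN hc S n)).2 (hH n) m)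
    uK_inj uK_inv (uK_d hN hc S) n
  rw [Bd_eq_coboundaries] at h1
  exact finite_quot _ _ T hT h1

end main

/-- **FIN passes from `E` to `E'`.** -/
theorem stmtFinStep : StmtFinStep.{u} := by
  intro R _ _ B B' _ _ _ _ _ _ ι S D _ _ _ c c' hc r₀ h N _ _ _ _ co hN
  exact ⟨fun j hj => van hN hc (shiftM S) r₀ h j hj, fun hf j => by
    exact fin hN hc (shiftM S) r₀ h j⟩

end Groth.Agent.ResProp.EF.K350
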