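import Groth.Agent.ResProp.EF.K350.Res

/-!
# The complex `K^n = P^n ⊗ B` of cofree Hopf modules
-/

set_option autoImplicit false

universe u

open TensorProduct

noncomputable section

namespace Groth.Agent.ResProp.EF.K350

open Groth.Agent.ResProp.EF.K83

section maps

variable {R : Type u} [CommRing R] {B B' : Type u} [CommRing B] [HopfAlgebra R B]
  [CommRing B'] [HopfAlgebra R B'] (ι : B →ₐc[R] B')

/-- `M ⊗ B → M ⊗ B'` -/
def jm (M : Type u) [AddCommGroup M] [Module R M] : M ⊗[R] B →ₗ[R] M ⊗[R] B' :=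
  (ι : B →ₐ[R] B').toLinearMap.lTensor M

variable (M : Type u) [AddCommGroup M] [Module R M]

@[simp] theorem jm_tmul (m : M) (b : B) : jm ι M (m ⊗ₜ[R] b) = m ⊗ₜ[R] ι b := rfl

/-- `m ⊗ b ↦ (m ⊗ ι b₁) ⊗ b₂` -/
def dl : M ⊗[R] B →ₗ[R] (M ⊗[R] B') ⊗[R] B := (jm ι M).rTensor B ∘ₗ Hoch.Ind.coactAux R B M

theorem jm_dl (x : M ⊗[R] B) :
    jm ι (M ⊗[R] B') (dl ι M x) = Hoch.Ind.coactAux R B' M (jm ι M x) := by
  induction x using TensorProduct.induction_on with
  | zero => simp
  | add x y hx hy => simp only [map_add, hx, hy]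
  | tmul m b =>
    rw [dl, LinearMap.comp_apply, Hoch.Ind.coactAux_tmul, jm_tmul, Hoch.Ind.coactAux_tmul]
    have h1 : ∀ w : B ⊗[R] B, jm ι (M ⊗[R] B') ((jm ι M).rTensor B
        ((TensorProduct.assoc R M B B).symm (m ⊗ₜ[R] w))) =
        (TensorProduct.assoc R M B' B').symm (m ⊗ₜ[R] (TensorProduct.map (ι : B →ₗ[R] B') (ι : B →ₗ[R] B') w)) := by
      intro w
      induction w using TensorProduct.induction_on with
      | zero => simp
      | add z₁ z₂ h₁ h₂ => simp only [map_add, TensorProduct.tmul_add, h₁, h₂]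
      | tmul a b => simp
    rw [h1]
    congr 2
    exact CoalgHomClass.map_comp_comul_apply ι b

/-- naturality of the coaction of cofree comodules -/
theorem coactAux_rTensor {M M' : Type u} [AddCommGroup M] [Module R M] [AddCommGroup M'] [Module R M']
    (f : M →ₗ[R] M') (x : M ⊗[R] B) :
    Hoch.Ind.coactAux R B M' (f.rTensor B x) = (f.rTensor B).rTensor B (Hoch.Ind.coactAux R B M x) := by
  induction x using TensorProduct.induction_on with
  | zero => simp
  | add x y hx hy => simp only [map_add, hx, hy]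
  | tmul m b =>
    rw [LinearMap.rTensor_tmul, Hoch.Ind.coactAux_tmul, Hoch.Ind.coactAux_tmul]
    generalize Coalgebra.comul (R := R) b = w
    induction w using TensorProduct.induction_on with
    | zero => simp
    | add z₁ z₂ h₁ h₂ => simp only [map_add, TensorProduct.tmul_add, h₁, h₂]
    | tmul a b => simp

theorem jm_rTensor {M M' : Type u} [AddCommGroup M] [Module R M] [AddCommGroup M'] [Module R M']
    (f : M →ₗ[R] M') (x : M ⊗[R] B) : jm ι M' (f.rTensor B x) = f.rTensor B' (jm ι M x) := by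
  induction x using TensorProduct.induction_on with
  | zero => simp
  | add x y hx hy => simp only [map_add, hx, hy]
  | tmul m b => rfl

theorem coactAux_coactAux (x : M ⊗[R] B) :
    Hoch.Ind.coactAux R B (M ⊗[R] B) (Hoch.Ind.coactAux R B M x) =
      (Hoch.Ind.coactAux R B M).rTensor B (Hoch.Ind.coactAux R B M x) := by
  have h := LinearMap.congr_fun (Hoch.Ind.comod R B M).coassoc x
  symm
  change _ = (TensorProduct.assoc R (M ⊗[R] B) B B).symm ((Coalgebra.comul (R := R) (A := B)).lTensor (M ⊗[R] B)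
    (Hoch.Ind.coactAux R B M x))
  rw [LinearEquiv.eq_symm_apply]
  exact h

theorem coactAux_dl (x : M ⊗[R] B) :
    Hoch.Ind.coactAux R B (M ⊗[R] B') (dl ι M x) = (dl ι M).rTensor B (Hoch.Ind.coactAux R B M x) := by
  rw [dl, LinearMap.comp_apply, coactAux_rTensor, coactAux_coactAux, LinearMap.rTensor_comp, LinearMap.comp_apply]

variable {D : Type u} [CommRing D] [Algebra R D] {c : CoAlg R B D} {c' : CoAlg R B' D}

theorem jm_actT {M : Type u} [AddCommGroup M] [Module R M] (φ : D →ₐ[R] Module.End R M) (t : D ⊗[R] B)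
    (x : M ⊗[R] B) :
    jm ι M (actT B φ t x) = actT B' φ ((ι : B →ₐ[R] B').toLinearMap.lTensor D t) (jm ι M x) := by
  induction t using TensorProduct.induction_on with
  | zero => simp
  | add t t' h h' => simp only [map_add, LinearMap.add_apply, h, h']
  | tmul d b =>
    induction x using TensorProduct.induction_on with
    | zero => simp
    | add x x' h h' => simp only [map_add, h, h']
    | tmul m b' =>
      rw [actT_tmul, jm_tmul, jm_tmul, LinearMap.lTensor_tmul, actT_tmul, map_mul]
      rfl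

theorem isLin_jm {M : Type u} [AddCommGroup M] [Module R M] (φ : D →ₐ[R] Module.End R M)
    (hc : ∀ x : D, c'.ρ x = (ι : B →ₐ[R] B').toLinearMap.lTensor D (c.ρ x)) :
    IsLin (tw c φ) (tw c' φ) (jm ι M) := fun d x => by
  rw [tw_apply, tw_apply, jm_actT, hc]

/-- operators on the last factor -/
theorem isLin_lTensor {M : Type u} [AddCommGroup M] [Module R M] (φ : D →ₐ[R] Module.End R M)
    (hc : ∀ x : D, c'.ρ x = (ι : B →ₐ[R] B').toLinearMap.lTensor D (c.ρ x)) (θ : B' →ₗ[R] B')
    (hθ : ∀ (b : B) (f : B'), θ (ι b * f) = ι b * θ f) :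
    IsLin (tw c' φ) (tw c' φ) (θ.lTensor M) := fun d x => by
  rw [tw_apply, tw_apply, hc]
  generalize c.ρ d = t
  induction t using TensorProduct.induction_on with
  | zero => simp
  | add t t' h h' => simp only [map_add, LinearMap.add_apply, h, h']
  | tmul d b =>
    induction x using TensorProduct.induction_on with
    | zero => simp
    | add x x' h h' => simp only [map_add, h, h']
    | tmul m b' =>
      rw [LinearMap.lTensor_tmul, LinearMap.lTensor_tmul, actT_tmul, actT_tmul, LinearMap.lTensor_tmul]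
      congr 1
      exact hθ b b'

theorem coactAux_lTensor (θ : B' →ₗ[R] B')
    (hθ : ∀ f : B', Coalgebra.comul (R := R) (θ f) = θ.lTensor B' (Coalgebra.comul (R := R) f)) (x : M ⊗[R] B') :
    Hoch.Ind.coactAux R B' M (θ.lTensor M x) = θ.lTensor (M ⊗[R] B') (Hoch.Ind.coactAux R B' M x) := by
  induction x using TensorProduct.induction_on with
  | zero => simp
  | add x y hx hy => simp only [map_add, hx, hy]
  | tmul m b =>
    rw [LinearMap.lTensor_tmul, Hoch.Ind.coactAux_tmul, Hoch.Ind.coactAux_tmul, hθ]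
    generalize Coalgebra.comul (R := R) b = w
    induction w using TensorProduct.induction_on with
    | zero => simp
    | add z₁ z₂ h₁ h₂ => simp only [map_add, TensorProduct.tmul_add, h₁, h₂]
    | tmul a b => simp

/-- the comodule structure of the cofree Hopf module -/
@[reducible] def coK {M : Type u} [AddCommGroup M] [Module R M] (c : CoAlg R B D) (φ : D →ₐ[R] Module.End R M) :
    HopfRep.Comod R B (Act (tw c φ)) :=
  inferInstanceAs (HopfRep.Comod R B (Hoch.Ind R B M))

theorem isHopfMod_coK {M : Type u} [AddCommGroup M] [Module R M] (c : CoAlg R B D)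
    (φ : D →ₐ[R] Module.End R M) : IsHopfMod c (Act (tw c φ)) (coK c φ) where
  smul d x := by
    rw [map₂_eq_actT]
    exact isLin_coactAux c φ d x

end maps

section K

variable {R : Type u} [CommRing R] {B B' : Type u} [CommRing B] [HopfAlgebra R B]
  [CommRing B'] [HopfAlgebra R B'] (ι : B →ₐc[R] B')
variable (N : Type u) [AddCommGroup N] [Module R N] [HopfRep.Comod R B' N]

/-- the differential of `K^n = P^n ⊗ B` -/
def dK (n : ℕ) : P R B' N n ⊗[R] B →ₗ[R] P R B' N (n + 1) ⊗[R] B :=
  (en R B' N n).rTensor B + ((-1 : R) ^ (n + 1)) • dl ι (P R B' N n)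

theorem dK_apply (n : ℕ) (x : P R B' N n ⊗[R] B) :
    dK ι N n x = (en R B' N n).rTensor B x + ((-1 : R) ^ (n + 1)) • dl ι (P R B' N n) x := rfl

theorem jm_dK (n : ℕ) (x : P R B' N n ⊗[R] B) :
    jm ι (P R B' N (n + 1)) (dK ι N n x) = en R B' N (n + 1) (jm ι (P R B' N n) x) := by
  rw [dK_apply, map_add, map_smul, en_succ, LinearMap.add_apply, LinearMap.smul_apply]
  congr 1
  · exact jm_rTensor ι (en R B' N n) x
  · congr 1
    exact jm_dl ι (P R B' N n) x

theorem dK_dK (hj : ∀ n, Function.Injective (jm ι (P R B' N n))) (n : ℕ) (x : P R B' N n ⊗[R] B) :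
    dK ι N (n + 1) (dK ι N n x) = 0 := by
  apply hj (n + 2)
  rw [jm_dK, jm_dK, en_en, map_zero]

theorem dK_tmul_one (n : ℕ) (m : P R B' N n) :
    dK ι N n (m ⊗ₜ[R] (1 : B)) = (Hoch.d R B' N n m) ⊗ₜ[R] (1 : B) := by
  rw [dK_apply, LinearMap.rTensor_tmul, en_apply, dl, LinearMap.comp_apply, Hoch.Ind.coactAux_tmul,
    Bialgebra.comul_one, Algebra.TensorProduct.one_def, TensorProduct.assoc_symm_tmul, LinearMap.rTensor_tmul,
    jm_tmul, map_one, TensorProduct.add_tmul, ← TensorProduct.smul_tmul', pow_succ, mul_neg, mul_one]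
  have key : ∀ (Q : Type u) [AddCommGroup Q] [Module R Q] (a b : Q) (s : R), a + s • b + (-s) • b = a := by
    intro Q _ _ a b s
    rw [neg_smul, add_neg_cancel_right]
  exact key ((P R B' N n ⊗[R] B') ⊗[R] B) _ _ _

theorem coactAux_dK (n : ℕ) (x : P R B' N n ⊗[R] B) :
    Hoch.Ind.coactAux R B (P R B' N (n + 1)) (dK ι N n x) =
      (dK ι N n).rTensor B (Hoch.Ind.coactAux R B (P R B' N n) x) := by
  rw [dK, LinearMap.add_apply, LinearMap.smul_apply, map_add, map_smul, coactAux_rTensor, LinearMap.rTensor_add,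
    LinearMap.rTensor_smul, LinearMap.add_apply, LinearMap.smul_apply]
  congr 2
  exact coactAux_dl ι (P R B' N n) x

variable {D : Type u} [CommRing D] [Algebra R D] {c : CoAlg R B D} {c' : CoAlg R B' D} [Module D N]
  [IsScalarTower R D N]

theorem isLin_dK (hc : ∀ x : D, c'.ρ x = (ι : B →ₐ[R] B').toLinearMap.lTensor D (c.ρ x))
    (hN : IsHopfMod c' N inferInstance)
    (hj : ∀ n, Function.Injective (jm ι (P R B' N n))) (n : ℕ) :
    IsLin (tw c (phi N c' n)) (tw c (phi N c' (n + 1))) (dK ι N n) := by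
  intro d x
  apply hj (n + 1)
  rw [jm_dK, isLin_jm ι (phi N c' n) hc, isLin_jm ι (phi N c' (n + 1)) hc, jm_dK]
  exact isLin_en N c' hN (n + 1) d _

end K

end Groth.Agent.ResProp.EF.K350
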