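import Groth.Agent.ResProp.EF.K350.KCx
import Groth.Agent.ResProp.EF.K601.PD

/-!
# The cohomology of the complex `K` is finitely generated over `D` and vanishes in degrees `> r`
-/

set_option autoImplicit false

universe u

open TensorProduct

noncomputable section

namespace Groth.Agent.ResProp.EF.K350

open Groth.Agent.ResProp.EF.K83
open Groth.Agent.ResProp.EF.K601

section

variable {R : Type u} [CommRing R] {B B' : Type u} [CommRing B] [HopfAlgebra R B]
  [CommRing B'] [HopfAlgebra R B'] (ι : B →ₐc[R] B')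

/-- the consequences of `ShiftData` that are used -/
structure ShiftM (r : ℕ) (θ : Fin r → (B' →ₗ[R] B')) : Prop where
  lin : ∀ i (b : B) (f : B'), θ i (ι b * f) = ι b * θ i f
  comul : ∀ i (f : B'), Coalgebra.comul (R := R) (θ i f) = (θ i).lTensor B' (Coalgebra.comul (R := R) f)
  comm : ∀ (M : Type u) [AddCommGroup M] [Module R M] (i j) (x : M ⊗[R] B'),
    (θ i).lTensor M ((θ j).lTensor M x) = (θ j).lTensor M ((θ i).lTensor M x)
  onto : ∀ (M : Type u) [AddCommGroup M] [Module R M] (i : Fin r) (x : M ⊗[R] B'),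
    (∀ j, j < i → (θ j).lTensor M x = 0) → ∃ y : M ⊗[R] B', (∀ j, j < i → (θ j).lTensor M y = 0) ∧
      (θ i).lTensor M y = x
  ker : ∀ (M : Type u) [AddCommGroup M] [Module R M] (x : M ⊗[R] B'), (∀ i, (θ i).lTensor M x = 0) →
    ∃ y : M ⊗[R] B, jm ι M y = x
  ker' : ∀ (M : Type u) [AddCommGroup M] [Module R M] (i) (y : M ⊗[R] B), (θ i).lTensor M (jm ι M y) = 0
  inj : ∀ (M : Type u) [AddCommGroup M] [Module R M], Function.Injective (jm ι M)

variable {ι} {r : ℕ} {θ : Fin r → (B' →ₗ[R] B')}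
variable {N : Type u} [AddCommGroup N] [Module R N] [HopfRep.Comod R B' N]
variable {D : Type u} [CommRing D] [Algebra R D] {c : CoAlg R B D} {c' : CoAlg R B' D} [Module D N]
  [IsScalarTower R D N]

/-- the terms of the cobar resolution as `D`-modules -/
abbrev IN (N : Type u) [AddCommGroup N] [Module R N] [HopfRep.Comod R B' N] [Module D N]
    [IsScalarTower R D N] (c' : CoAlg R B' D) (n : ℕ) : Type u := Act (phi N c' (n + 1))

/-- the terms of `K` as `D`-modules -/
abbrev KN (N : Type u) [AddCommGroup N] [Module R N] [HopfRep.Comod R B' N] [Module D N]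
    [IsScalarTower R D N] (c : CoAlg R B D) (c' : CoAlg R B' D) (n : ℕ) : Type u := Act (tw c (phi N c' n))

variable (hN : IsHopfMod c' N inferInstance)

/-- the differential of the resolution, `D`-linear -/
def dI (n : ℕ) : IN N c' n →ₗ[D] IN N c' (n + 1) := (isLin_en N c' hN (n + 1)).toD

/-- the operators, `D`-linear -/
def thI (hc : ∀ x : D, c'.ρ x = (ι : B →ₐ[R] B').toLinearMap.lTensor D (c.ρ x)) (S : ShiftM ι r θ)
    (i : Fin r) (n : ℕ) : IN N c' n →ₗ[D] IN N c' n :=
  (isLin_lTensor ι (c := c) (c' := c') (phi N c' n) hc (θ i) (S.lin i)).toD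

/-- the differential of `K`, `D`-linear -/
def dKD (hc : ∀ x : D, c'.ρ x = (ι : B →ₐ[R] B').toLinearMap.lTensor D (c.ρ x)) (S : ShiftM ι r θ) (n : ℕ) :
    KN N c c' n →ₗ[D] KN N c c' (n + 1) := (isLin_dK ι N hc hN (fun _ => S.inj _) n).toD

/-- the inclusion, `D`-linear -/
def jD (hc : ∀ x : D, c'.ρ x = (ι : B →ₐ[R] B').toLinearMap.lTensor D (c.ρ x)) (n : ℕ) :
    KN N c c' n →ₗ[D] IN N c' n := (isLin_jm ι (phi N c' n) hc).toD

theorem lTensor_en (S : ShiftM ι r θ) (i : Fin r) (n : ℕ) (x : P R B' N (n + 1)) :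
    en R B' N (n + 1) ((θ i).lTensor (P R B' N n) x) =
      (θ i).lTensor (P R B' N (n + 1)) (en R B' N (n + 1) x) := by
  rw [en_succ, LinearMap.add_apply, LinearMap.add_apply, LinearMap.smul_apply, LinearMap.smul_apply, map_add,
    map_smul]
  congr 1
  · induction x using TensorProduct.induction_on with
    | zero => simp
    | add x y hx hy => simp only [map_add]; exact congrArg₂ (· + ·) hx hy
    | tmul m b => rfl
  · congr 1
    exact coactAux_lTensor (P R B' N n) (θ i) (S.comul i) x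

variable (hc : ∀ x : D, c'.ρ x = (ι : B →ₐ[R] B').toLinearMap.lTensor D (c.ρ x)) (S : ShiftM ι r θ)

include hN hc S in
theorem ops : PD.Ops D r (IN N c') (dI hN) (thI (N := N) (c' := c') hc S) where
  comm i j n x := S.comm (P R B' N n) i j x
  commd i n x := lTensor_en S i n x
  onto i n x hx := by
    rw [PD.mem_L] at hx
    obtain ⟨y, hy, h⟩ := S.onto (P R B' N n) i x fun j hj => hx j hj
    exact ⟨y, (PD.mem_L _ _ _ _).2 fun j hj => hy j hj, h⟩

theorem dI_dI (n : ℕ) (x : IN N c' n) : dI hN (n + 1) (dI hN n x) = 0 := en_en R B' N (n + 1) x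

theorem jD_dKD (n : ℕ) (x : KN N c c' n) :
    jD hc (n + 1) (dKD hN hc S n x) = dI hN n (jD hc n x) := jm_dK ι N n x

theorem mem_L_iff (n : ℕ) (x : IN N c' n) :
    x ∈ PD.L (thI (N := N) (c' := c') hc S) r n ↔ ∃ y : KN N c c' n, jD hc n y = x := by
  rw [PD.mem_L]
  constructor
  · intro h
    obtain ⟨y, hy⟩ := S.ker (P R B' N n) x fun i => h i i.2
    exact ⟨y, hy⟩
  · rintro ⟨y, rfl⟩ j _
    exact S.ker' (P R B' N n) j y

include S in
theorem jD_injective (n : ℕ) : Function.Injective (jD (N := N) (c := c) (c' := c') hc n) := S.inj (P R B' N n)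

/-- boundaries of `K` -/
abbrev BdK (n : ℕ) : Submodule D (KN N c c' n) := PD.Bd (dKD hN hc S) (fun _ => ⊤) n

theorem comap_Bd_le (n : ℕ) :
    (PD.Bd (dI hN) (PD.L (thI (N := N) (c' := c') hc S) r) n).comap (jD hc n) ≤ BdK hN hc S n := by
  cases n with
  | zero =>
    intro x hx
    have h : jD hc 0 x = 0 := hx
    exact jD_injective hc S 0 (h.trans (map_zero _).symm)
  | succ n =>
    rintro x ⟨y, hy, hyx⟩
    obtain ⟨y', rfl⟩ := (mem_L_iff hc S n y).1 hy
    refine ⟨y', trivial, jD_injective hc S (n + 1) ?_⟩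
    rw [jD_dKD]
    exact hyx

theorem map_ker_le (n : ℕ) : (LinearMap.ker (dKD hN hc S n)).map (jD hc n) ≤
    PD.L (thI (N := N) (c' := c') hc S) r n ⊓ LinearMap.ker (dI hN n) := by
  rintro _ ⟨x, hx, rfl⟩
  refine ⟨(mem_L_iff hc S n _).2 ⟨x, rfl⟩, ?_⟩
  change dI hN n (jD hc n x) = 0
  rw [← jD_dKD hN hc S, show dKD hN hc S n x = 0 from hx, map_zero]

theorem ker_dI_le_succ (n : ℕ) : LinearMap.ker (dI hN (n + 1)) ≤ PD.Bd (dI hN) (fun _ => ⊤) (n + 1) := by
  intro x hx
  obtain ⟨y, hy⟩ := mem_range_en R B' N (n + 1) x hx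
  exact ⟨y, trivial, hy⟩

/-- **finiteness** of the cohomology of `K` over `D` -/
theorem fgK [IsNoetherianRing D] [Module.Finite D N] (n : ℕ) :
    ∃ T : Submodule D (KN N c c' n), T.FG ∧ LinearMap.ker (dKD hN hc S n) ≤ T ⊔ BdK hN hc S n := by
  have h0 : ∀ n, ∃ S : Submodule D (IN N c' n), S.FG ∧
      LinearMap.ker (dI hN n) ≤ S ⊔ PD.Bd (dI hN) (fun _ => ⊤) n := by
    intro n
    cases n with
    | zero =>
      let f : N →ₗ[D] IN N c' 0 :=
        { toFun := fun m => en R B' N 0 m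
          map_add' := fun a b => map_add _ a b
          map_smul' := fun d m => isLin_en N c' hN 0 d m }
      refine ⟨LinearMap.range f, ?_, ?_⟩
      · rw [LinearMap.range_eq_map]
        exact (Module.Finite.fg_top).map f
      · intro x hx
        obtain ⟨y, hy⟩ := mem_range_en R B' N 0 x hx
        exact Submodule.mem_sup_left ⟨y, hy⟩
    | succ n => exact ⟨⊥, Submodule.fg_bot, (ker_dI_le_succ hN n).trans le_sup_right⟩
  obtain ⟨Q, hQ, hQ'⟩ := (ops hN hc S).fg (dI_dI hN) h0 r le_rfl n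
  obtain ⟨T, hT, _, hT'⟩ := PD.exists_fg_lift (jD hc n) _ Q hQ (LinearMap.ker (dKD hN hc S n))
    ((map_ker_le hN hc S n).trans hQ')
  exact ⟨T, hT, hT'.trans (sup_le_sup_left (inf_le_right.trans (comap_Bd_le hN hc S n)) _)⟩

/-- **vanishing** of the cohomology of `K` above `r` -/
theorem zeroK (n : ℕ) (hn : r < n) :
    LinearMap.ker (dKD hN hc S n) ≤ BdK hN hc S n := by
  have h0 : ∀ n, 0 < n → LinearMap.ker (dI hN n) ≤ PD.Bd (dI hN) (fun _ => ⊤) n := by
    intro n hn
    obtain ⟨m, rfl⟩ : ∃ m, n = m + 1 := ⟨n - 1, by omega⟩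
    exact ker_dI_le_succ hN m
  have h1 := (ops hN hc S).zero (dI_dI hN) 0 h0 r le_rfl n (by omega)
  intro x hx
  apply comap_Bd_le hN hc S n
  exact h1 (map_ker_le hN hc S n ⟨x, hx, rfl⟩)

end

end Groth.Agent.ResProp.EF.K350
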