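import Groth.Agent.ResProp.EF.K686.TensCEx
import Groth.Agent.ResProp.EF.K742.CoalgChart
import Groth.Agent.ResProp.EF.K276.TensBC
import Groth.Agent.ResProp.EF.X56.ChartF

/-!
# The comonad `- ⊗_k B` preserves lower Tor bounds (BICOM, `PresTor`)

`presTor_GO : PresTor X (GO s B)` for every chart `X` of `Comod A` with `X.us = vst A`, `B` a flat commutative
`k`-bialgebra; `chartGO s B h : K294.Chart R (GO s B).Coalgebra`.
-/

set_option autoImplicit false
set_option linter.dupNamespace false
set_option linter.style.haveILetI false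

open CategoryTheory CategoryTheory.Limits Opposite TensorProduct MonoidalCategory

noncomputable section

namespace Groth.Agent.ResProp.EF.K350.PresTor

open K784.BC K784.PM K741.RP EF56 K742 K294 K276 Groth.Agent.PerfB.RingKFlat

universe u

section alg

variable {R S : Type u} [CommRing R] [CommRing S] [Algebra R S]

/-- `res (ext N) = N ⊗ S` -/
def extResR (N : ModuleCat.{u} R) : (res R S).obj ((ext R S).obj N) ≅ (tensorRight (ModuleCat.of R S)).obj N :=
  (extResIso R S).app N ≪≫ (BraidedCategory.tensorLeftIsoTensorRight (ModuleCat.of R S)).app N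

theorem extResR_nat {M N : ModuleCat.{u} R} (f : M ⟶ N) :
    (extResR (S := S) M).hom ≫ (tensorRight (ModuleCat.of R S)).map f =
      (res R S).map ((ext R S).map f) ≫ (extResR (S := S) N).hom :=
  ((extResIso R S ≪≫ BraidedCategory.tensorLeftIsoTensorRight (ModuleCat.of R S)).hom.naturality f).symm

/-- on complexes -/
def extResRC (K : CM R) : (resC R S).obj ((extC R S).obj K) ≅
    ((tensorRight (ModuleCat.of R S)).mapHomologicalComplex (ComplexShape.up ℤ)).obj K :=
  HomologicalComplex.Hom.isoOfComponents (fun n => extResR (S := S) (K.X n))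
    (fun i j _ => extResR_nat (S := S) (K.d i j))

/-- `- ⊗_R S` for a flat `R`-algebra `S` preserves lower Tor bounds -/
theorem torGE_tensorRight [Module.Flat R S] {a : ℤ} {K : CM R} (hK : TorGE a K) :
    TorGE a (((tensorRight (ModuleCat.of R S)).mapHomologicalComplex (ComplexShape.up ℤ)).obj K) :=
  TorGE.of_iso (extResRC K) (torGE_res (torGE_ext hK))

end alg

section comod

variable {k : Type u} [CommRing k] {A : NFᵒᵖ ⥤ CommRingCat.{u}} [Fact (GR A)] (s : KS k A)
variable (B : Type u) [CommRing B] [Algebra k B] [Module.Flat k B]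

/-- the comparison on the chart, on complexes -/
def vstTensCx (F : ModuleCat.{u} (A.obj (op ⟨0⟩)) ⥤ Comod A) [F.Additive] (K : CM (A.obj (op ⟨0⟩)))
    [(F ⋙ vst A).Additive] [(F ⋙ tensC s B ⋙ vst A).Additive] :
    ((tensorRight (ModuleCat.of (A.obj (op ⟨0⟩)) (TM (s.κ (op ⟨0⟩)) (A.obj (op ⟨0⟩)) B))).mapHomologicalComplex
      (ComplexShape.up ℤ)).obj (((F ⋙ vst A).mapHomologicalComplex (ComplexShape.up ℤ)).obj K) ≅
    ((F ⋙ tensC s B ⋙ vst A).mapHomologicalComplex (ComplexShape.up ℤ)).obj K :=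
  HomologicalComplex.Hom.isoOfComponents (fun n => ((K686.TensC.vstTensC s B).app (F.obj (K.X n))).symm)
    (fun i j _ => ((K686.TensC.vstTensC s B).inv.naturality (F.map (K.d i j))).symm)

theorem torGE_tensC (F : ModuleCat.{u} (A.obj (op ⟨0⟩)) ⥤ Comod A) [F.Additive] {a : ℤ}
    {K : CM (A.obj (op ⟨0⟩))} [(F ⋙ vst A).Additive] [(F ⋙ tensC s B ⋙ vst A).Additive]
    (hK : TorGE a (((F ⋙ vst A).mapHomologicalComplex (ComplexShape.up ℤ)).obj K)) :
    TorGE a (((F ⋙ tensC s B ⋙ vst A).mapHomologicalComplex (ComplexShape.up ℤ)).obj K) := by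
  refine TorGE.of_iso (vstTensCx s B F K) ?_
  letI := (s.κ (op ⟨0⟩)).toAlgebra
  exact torGE_tensorRight (R := A.obj (op ⟨0⟩)) (S := (A.obj (op ⟨0⟩)) ⊗[k] B) hK

/-- **`- ⊗_k B` preserves lower Tor bounds** (`PresTor`, any chart with `us = vst A`) -/
theorem presTor_of (X : K294.Chart (A.obj (op ⟨0⟩)) (Comod A)) (hX : X.us = vst A) [Coalgebra k B] :
    PresTor X (GO s B) := by
  obtain ⟨us, ul, adj, i1, i2, i3, i4, i5, i6⟩ := X
  dsimp only at hX
  subst hX
  intro a K hK
  exact torGE_tensC s B ul (i6 a K hK)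

end comod

section flat

variable {k : Type u} [CommRing k] {R : Type u} [CommRing R] (κ : k →+* R) (M : Type u) [AddCommGroup M] [Module R M]
variable (W : Type u) [AddCommGroup W] [Module k W]

/-- `M ⊗_k W` is flat over `R` if `M` is flat over `R` and `W` flat over `k` -/
theorem flat_TM [Module.Flat R M] [Module.Flat k W] : Module.Flat R (TM κ M W) := by
  letI := κ.toAlgebra
  have h1 : Module.Flat R (TM κ R W) := inferInstanceAs (Module.Flat R (R ⊗[k] W))
  have h2 : Module.Flat R (M ⊗[R] (TM κ R W)) := inferInstance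
  exact Module.Flat.of_linearEquiv (K686.TensC.bcE κ W M)

end flat

section flatC

variable {k : Type u} [CommRing k] {A : NFᵒᵖ ⥤ CommRingCat.{u}} (s : KS k A)
variable (W : Type u) [AddCommGroup W] [Module k W] [Module.Flat k W]

theorem flat_tensC (N : Comod A) (h : Module.Flat (A.obj (op ⟨0⟩)) ((vst A).obj N)) :
    Module.Flat (A.obj (op ⟨0⟩)) ((vst A).obj ((tensC s W).obj N)) :=
  flat_TM (s.κ (op ⟨0⟩)) ((vst A).obj N) W

end flatC

section GO

variable {k : Type u} [CommRing k] {A : NFᵒᵖ ⥤ CommRingCat.{u}} [hA : Fact (GR A)] (s : KS k A)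
variable (B : Type u) [CommRing B] [Bialgebra k B] [Module.Flat k B]

/-- **(I3)** `PresTor` for the chart `chartF A` -/
theorem presTor_GO : PresTor (EF56.chartF A) (GO s B) := presTor_of s B (EF56.chartF A) rfl

/-- **(I4)** flatness on the chart -/
theorem flat_GO (N : Comod A) (h : Module.Flat (A.obj (op ⟨0⟩)) ((EF56.chartF A).us.obj N)) :
    Module.Flat (A.obj (op ⟨0⟩)) ((EF56.chartF A).us.obj ((GO s B).obj N)) := flat_tensC s B N h

/-- the chart of the category of `GO s B`-coalgebras -/
def chartGO : K294.Chart (A.obj (op ⟨0⟩)) (GO s B).Coalgebra :=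
  coalgChart (EF56.chartF A) (GO s B) (presTor_GO s B)

theorem chartGO_us : (chartGO s B).us = (GO s B).forget ⋙ vst A := rfl

end GO

end Groth.Agent.ResProp.EF.K350.PresTor
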