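import Groth.Agent.ResProp.EF.K350.Act

/-!
# The cobar resolution of a comodule and its subcomplex of `V^♯`-invariants
-/

set_option autoImplicit false

universe u

open TensorProduct

noncomputable section

namespace Groth.Agent.ResProp.EF.K350

open Groth.Agent.ResProp.EF.K83

section res

variable (R : Type u) [CommRing R] (A : Type u) [CommRing A] [HopfAlgebra R A]
variable (N : Type u) [AddCommGroup N] [Module R N] [HopfRep.Comod R A N]

/-- cochains -/
abbrev P (n : ℕ) : Type u := (Hoch.cochain R A N n : Type u)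

/-- the differential of the cobar resolution -/
def en (n : ℕ) : P R A N n →ₗ[R] P R A N (n + 1) :=
  Hoch.d R A N n + ((-1 : R) ^ n) • (TensorProduct.mk R (P R A N n) A).flip 1

theorem en_apply (n : ℕ) (x : P R A N n) :
    en R A N n x = Hoch.d R A N n x + ((-1 : R) ^ n) • (x ⊗ₜ[R] (1 : A)) := rfl

theorem en_zero : en R A N 0 = (HopfRep.Comod.coact (k := R) (A := A) : N →ₗ[R] N ⊗[R] A) := by
  apply LinearMap.ext
  intro x
  rw [en_apply, Hoch.d_zero_apply, pow_zero, one_smul]
  exact sub_add_cancel _ _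

theorem en_succ (n : ℕ) : en R A N (n + 1) =
    (en R A N n).rTensor A + ((-1 : R) ^ (n + 1)) • Hoch.Ind.coactAux R A (P R A N n) := by
  refine TensorProduct.ext' fun m a => ?_
  rw [en_apply, Hoch.d_succ, LinearMap.add_apply, LinearMap.add_apply, LinearMap.smul_apply, LinearMap.smul_apply,
    LinearMap.rTensor_tmul, LinearMap.rTensor_tmul, Hoch.tail_tmul, Hoch.Ind.coactAux_tmul, en_apply,
    TensorProduct.tmul_sub, TensorProduct.tmul_sub, map_sub, map_sub, TensorProduct.assoc_symm_tmul,
    TensorProduct.assoc_symm_tmul, TensorProduct.add_tmul, smul_sub, smul_sub, pow_succ, ← TensorProduct.smul_tmul']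
  simp only [mul_neg, mul_one, neg_smul]
  abel

theorem en_en (n : ℕ) (x : P R A N n) : en R A N (n + 1) (en R A N n x) = 0 := by
  have h1 : Hoch.d R A N (n + 1) (x ⊗ₜ[R] (1 : A)) =
      (Hoch.d R A N n x) ⊗ₜ[R] (1 : A) - ((-1 : R) ^ (n + 1)) • ((x ⊗ₜ[R] (1 : A)) ⊗ₜ[R] (1 : A)) := by
    rw [Hoch.d_succ, LinearMap.add_apply, LinearMap.smul_apply, LinearMap.rTensor_tmul, Hoch.tail_tmul,
      Bialgebra.comul_one, Algebra.TensorProduct.one_def, sub_self, zero_sub, TensorProduct.tmul_neg, map_neg,
      TensorProduct.assoc_symm_tmul, smul_neg, sub_eq_add_neg]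
  rw [en_apply, en_apply, map_add, map_smul, K915.HochDSq.dd_apply, h1, zero_add, TensorProduct.add_tmul,
    smul_add, smul_sub, ← TensorProduct.smul_tmul', smul_smul, smul_smul, pow_succ]
  have h2 : ((-1 : R) ^ n) * ((-1 : R) ^ n) = 1 := by
    rw [← mul_pow]; simp
  have h3 : ((-1 : R) ^ n) * ((-1 : R) ^ n * -1) = -1 := by rw [← mul_assoc, h2, one_mul]
  have h4 : ((-1 : R) ^ n * -1) * ((-1 : R) ^ n) = -1 := by rw [mul_assoc, mul_comm (-1 : R), ← mul_assoc, h2, one_mul]
  rw [h3, h4]
  simp only [mul_neg, mul_one, neg_smul, one_smul]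
  abel

/-- evaluation of the last variable at `1` -/
def sn (n : ℕ) : P R A N (n + 1) →ₗ[R] P R A N n :=
  (TensorProduct.rid R (P R A N n)).toLinearMap ∘ₗ (Coalgebra.counit (R := R) (A := A)).lTensor (P R A N n)

theorem sn_tmul (n : ℕ) (m : P R A N n) (a : A) : sn R A N n (m ⊗ₜ[R] a) = Coalgebra.counit (R := R) a • m := by
  change TensorProduct.rid R (P R A N n) (m ⊗ₜ[R] Coalgebra.counit (R := R) a) = _
  exact TensorProduct.rid_tmul _ _

theorem sn_coactAux (n : ℕ) (x : P R A N (n + 1)) :
    sn R A N (n + 1) (Hoch.Ind.coactAux R A (P R A N n) x) = x := by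
  induction x using TensorProduct.induction_on with
  | zero => simp
  | add x y hx hy => rw [map_add, map_add]; exact congrArg₂ (· + ·) hx hy
  | tmul m a =>
    rw [Hoch.Ind.coactAux_tmul]
    have h1 : ∀ w : A ⊗[R] A, sn R A N (n + 1) ((TensorProduct.assoc R (P R A N n) A A).symm (m ⊗ₜ[R] w)) =
        m ⊗ₜ[R] ((TensorProduct.rid R A) ((Coalgebra.counit (R := R) (A := A)).lTensor A w)) := by
      intro w
      induction w using TensorProduct.induction_on with
      | zero => simp
      | add z₁ z₂ h₁ h₂ => simp only [map_add, TensorProduct.tmul_add, h₁, h₂]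
      | tmul a b =>
        rw [TensorProduct.assoc_symm_tmul, LinearMap.lTensor_tmul, TensorProduct.rid_tmul, TensorProduct.tmul_smul]
        exact sn_tmul R A N (n + 1) _ _
    rw [h1, Coalgebra.lTensor_counit_comul]
    simp

theorem sn_en (n : ℕ) (x : P R A N (n + 1)) :
    sn R A N (n + 1) (en R A N (n + 1) x) = en R A N n (sn R A N n x) + ((-1 : R) ^ (n + 1)) • x := by
  rw [en_succ, LinearMap.add_apply, LinearMap.smul_apply, map_add, map_smul, sn_coactAux]
  congr 1
  induction x using TensorProduct.induction_on with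
  | zero => simp
  | add x y hx hy => simp only [map_add]; exact congrArg₂ (· + ·) hx hy
  | tmul m a => rw [LinearMap.rTensor_tmul, sn_tmul, sn_tmul, map_smul]

theorem mem_range_en (n : ℕ) (x : P R A N (n + 1)) (hx : en R A N (n + 1) x = 0) :
    ∃ y, en R A N n y = x := by
  have h := sn_en R A N n x
  rw [hx, map_zero] at h
  refine ⟨(-((-1 : R) ^ (n + 1))) • sn R A N n x, ?_⟩
  have h2 : ((-1 : R) ^ (n + 1)) * ((-1 : R) ^ (n + 1)) = 1 := by rw [← mul_pow]; simp
  rw [map_smul, neg_smul, eq_comm, ← add_eq_zero_iff_eq_neg]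
  have h3 : ((-1 : R) ^ (n + 1)) • (en R A N n (sn R A N n x) + ((-1 : R) ^ (n + 1)) • x) = 0 := by
    rw [← h, smul_zero]
  rw [smul_add, smul_smul, h2, one_smul] at h3
  exact (add_comm _ _).trans h3

variable {R A} {D : Type u} [CommRing D] [Algebra R D] (c : CoAlg R A D) [Module D N] [IsScalarTower R D N]

/-- the action of `D` on the cobar resolution -/
def phi : (n : ℕ) → (D →ₐ[R] Module.End R (P R A N n))
  | 0 => Algebra.lsmul R R N
  | n + 1 => tw c (phi n)

omit [HopfRep.Comod R A N] in
theorem phi_succ (n : ℕ) : phi N c (n + 1) = tw c (phi N c n) := rfl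

theorem isLin_en (hN : IsHopfMod c N inferInstance) (n : ℕ) : IsLin (phi N c n) (phi N c (n + 1)) (en R A N n) := by
  induction n with
  | zero =>
    rw [en_zero]
    intro d m
    exact (hN.smul d m).trans (map₂_eq_actT N _ _)
  | succ n ih =>
    rw [en_succ]
    exact (ih.rTensor c).add ((isLin_coactAux c (phi N c n)).smul _)

end res

end Groth.Agent.ResProp.EF.K350
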