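import Groth.Agent.ResProp.EF.K742.GO
import Groth.Agent.ResProp.EF.K118.Lift
import Groth.Agent.ResProp.EF.K496.Bc

/-!
# `u_E` : coalgebras of `- ⊗_k B` on `Comod A` ⥤ coalgebras of `- ⊗_R (R ⊗_k B)` on `Mod R`, `R = A⟨0⟩`

`isoL : TM κ M B ≃ₗ[R] M ⊗[R] (R ⊗[k] B)`, `cuE : K496.CHom (unitGO s B) (UO R (R ⊗[k] B)) (vst A)`,
`uE := cuE.lift`, `uE ⋙ forget = forget ⋙ vst A` (rfl), `cobUE` : `vst (Cob M) ≅ Cob (uE M)`.
-/

set_option autoImplicit false
set_option linter.dupNamespace false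
set_option linter.unusedSectionVars false

open CategoryTheory CategoryTheory.Limits Opposite TensorProduct

noncomputable section

namespace Groth.Agent.ResProp.EF.K350.UE

open K784.BC K784.PM K741.RP EF56 K742

universe u

section level

variable {k : Type u} [CommRing k] (B : Type u) [CommRing B] [Bialgebra k B] {R : Type u} [CommRing R] [Algebra k R]
variable {κ : k →+* R} (hκ : ∀ c, κ c = algebraMap k R c)

include hκ in
theorem tower (M : Type u) [AddCommGroup M] [Module R M] :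
    letI : Module k M := Module.compHom M κ; IsScalarTower k R M :=
  letI : Module k M := Module.compHom M κ
  ⟨fun a b n => by
    rw [Algebra.smul_def, ← hκ]
    exact mul_smul (κ a) b n⟩

/-- `m ⊗ b ↦ m ⊗ (1 ⊗ b)` -/
def isoL (M : Type u) [AddCommGroup M] [Module R M] : TM κ M B ≃ₗ[R] M ⊗[R] (R ⊗[k] B) :=
  letI : Module k M := Module.compHom M κ
  haveI : IsScalarTower k R M := tower hκ M
  K496.bcE k B R M

theorem isoL_tm (M : Type u) [AddCommGroup M] [Module R M] (m : M) (b : B) :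
    isoL B hκ M (TM.tm κ m b) = m ⊗ₜ[R] ((1 : R) ⊗ₜ[k] b) :=
  letI : Module k M := Module.compHom M κ
  haveI : IsScalarTower k R M := tower hκ M
  K496.bcE_tmul m b

theorem isoL_nat {M N : Type u} [AddCommGroup M] [Module R M] [AddCommGroup N] [Module R N] (f : M →ₗ[R] N)
    (x : TM κ M B) : isoL B hκ N (TM.map κ f (LinearMap.id : B →ₗ[k] B) x) =
      f.rTensor (R ⊗[k] B) (isoL B hκ M x) := by
  induction x using TM.induction with
  | zero => rw [map_zero, map_zero, map_zero, map_zero]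
  | tm m b => rw [TM.map_tm, isoL_tm, isoL_tm, LinearMap.rTensor_tmul]; rfl
  | add x y hx hy => rw [map_add, map_add, map_add, map_add, hx, hy]

theorem isoL_eps (M : Type u) [AddCommGroup M] [Module R M] (x : TM κ M B) :
    K496.epsL R (R ⊗[k] B) M (isoL B hκ M x) = K742.epsL B κ M x := by
  induction x using TM.induction with
  | zero => rw [map_zero, map_zero, map_zero]
  | tm m b =>
    rw [isoL_tm, K496.epsL_tmul, K742.epsL_tm, TensorProduct.counit_tmul, hκ]
    simp [Algebra.smul_def]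
  | add x y hx hy => rw [map_add, map_add, map_add, hx, hy]

/-- the double isomorphism -/
def isoL2 (M : Type u) [AddCommGroup M] [Module R M] :
    TM κ (TM κ M B) B →ₗ[R] (M ⊗[R] (R ⊗[k] B)) ⊗[R] (R ⊗[k] B) :=
  (isoL B hκ M).toLinearMap.rTensor (R ⊗[k] B) ∘ₗ (isoL B hκ (TM κ M B)).toLinearMap

theorem isoL2_tm (M : Type u) [AddCommGroup M] [Module R M] (m : M) (a b : B) :
    isoL2 B hκ M (TM.tm κ (TM.tm κ m a) b) = (m ⊗ₜ[R] ((1 : R) ⊗ₜ[k] a)) ⊗ₜ[R] ((1 : R) ⊗ₜ[k] b) := by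
  rw [isoL2, LinearMap.comp_apply, LinearEquiv.coe_coe, isoL_tm, LinearMap.rTensor_tmul, LinearEquiv.coe_coe,
    isoL_tm]

theorem isoL2_ins (M : Type u) [AddCommGroup M] [Module R M] (m : M) (z : B ⊗[k] B) :
    isoL2 B hκ M (K742.ins B κ m z) = (TensorProduct.assoc R M (R ⊗[k] B) (R ⊗[k] B)).symm
      (m ⊗ₜ[R] AlgebraTensorModule.distribBaseChange k R B B ((1 : R) ⊗ₜ[k] z)) := by
  induction z using TensorProduct.induction_on with
  | zero => rw [map_zero, map_zero, TensorProduct.tmul_zero, map_zero, TensorProduct.tmul_zero, map_zero]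
  | tmul a b =>
    rw [K742.ins_tmul, isoL2_tm, AlgebraTensorModule.distribBaseChange_tmul, TensorProduct.assoc_symm_tmul]
  | add x y hx hy => rw [map_add, map_add, TensorProduct.tmul_add, map_add, TensorProduct.tmul_add, map_add, hx, hy]

theorem isoL_del (M : Type u) [AddCommGroup M] [Module R M] (x : TM κ M B) :
    isoL2 B hκ M (K742.delL B κ M x) = Hoch.Ind.coactAux R (R ⊗[k] B) M (isoL B hκ M x) := by
  induction x using TM.induction with
  | zero => rw [map_zero, map_zero, map_zero, map_zero]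
  | tm m b => rw [isoL_tm, K742.delL_tm, isoL2_ins, Hoch.Ind.coactAux_tmul, K805.comul_one_tmul]
  | add x y hx hy => rw [map_add, map_add, map_add, map_add, hx, hy]

theorem isoL_one (M : Type u) [AddCommGroup M] [Module R M] (m : M) :
    isoL B hκ M (TM.tm κ m 1) = m ⊗ₜ[R] (1 : R ⊗[k] B) := by
  rw [isoL_tm, Algebra.TensorProduct.one_def]

end level

section functor

variable {k : Type u} [CommRing k] {A : NFᵒᵖ ⥤ CommRingCat.{u}} (s : KS k A)
variable (B : Type u) [CommRing B] [Bialgebra k B] [Algebra k (A.obj (op ⟨0⟩))]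
variable (hs : ∀ c, s.κ (op ⟨0⟩) c = algebraMap k (A.obj (op ⟨0⟩)) c)

/-- the ring of the chart -/
abbrev RR (A : NFᵒᵖ ⥤ CommRingCat.{u}) : Type u := A.obj (op ⟨0⟩)

/-- **`vst A` is compatible with the comonads `- ⊗_k B` and `- ⊗_R (R ⊗_k B)`.** -/
def cuE : K496.CHom (unitGO s B) (K496.UO (RR A) (RR A ⊗[k] B)) (vst A) where
  iso N := (isoL B hs (N.obj.obj (op ⟨0⟩))).toModuleIso
  nat {M N} f := by
    ext x
    exact isoL_nat B hs (lv f.hom (op ⟨0⟩)) x
  eps N := by
    ext x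
    exact isoL_eps B hs (N.obj.obj (op ⟨0⟩)) x
  del N := by
    ext x
    exact isoL_del B hs (N.obj.obj (op ⟨0⟩)) x
  one N := by
    ext x
    exact isoL_one B hs (N.obj.obj (op ⟨0⟩)) x

/-- **`u_E`** -/
abbrev uE : (GO s B).Coalgebra ⥤ (K496.GO (RR A) (RR A ⊗[k] B)).Coalgebra := (cuE s B hs).lift

theorem uE_forget : uE s B hs ⋙ (K496.GO (RR A) (RR A ⊗[k] B)).forget = (GO s B).forget ⋙ vst A := rfl

/-- the coaction of `u_E M` -/
theorem coactOf_uE (M : (GO s B).Coalgebra) (m : M.A.obj.obj (op ⟨0⟩)) :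
    K496.coactOf ((uE s B hs).obj M) m = isoL B hs (M.A.obj.obj (op ⟨0⟩)) (lv M.a.hom (op ⟨0⟩) m) := rfl

end functor

end Groth.Agent.ResProp.EF.K350.UE
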