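import Mathlib.Algebra.Homology.HomologySequence
import Mathlib.Algebra.Homology.HomologicalComplexAbelian
import Mathlib.CategoryTheory.Abelian.SerreClass.Basic

/-!
# Killing commuting surjective operators on a complex

`K : CochainComplex C ℤ`, `θ : K ⟶ K` an epimorphism: the cohomology of `ker θ` is controlled by
the cohomology of `K` (long exact sequence), in any Serre class, with a shift by one of the
vanishing bound. Iterated version for a chain of subcomplexes.
-/

set_option autoImplicit false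

open CategoryTheory Limits

universe v u

namespace Groth.Agent.ResProp.EF.K350

variable {C : Type u} [Category.{v} C] [Abelian C]

/-- one step: `0 ⟶ K' ⟶ K ⟶ K'' ⟶ 0`; `P i (H^i K)`, `P i (H^i K'')`, `P i ≤ Q i`, `P i ≤ Q (i+1)`. -/
theorem step_of_shortExact (P Q : ℤ → ObjectProperty C) [∀ i, (Q i).IsSerreClass]
    (h₀ : ∀ i, P i ≤ Q i) (h₁ : ∀ i, P i ≤ Q (i + 1))
    {S : ShortComplex (CochainComplex C ℤ)} (hS : S.ShortExact)
    (h₂ : ∀ i, P i (S.X₂.homology i)) (h₃ : ∀ i, P i (S.X₃.homology i)) (i : ℤ) :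
    Q i (S.X₁.homology i) := by
  obtain ⟨j, rfl⟩ : ∃ j, i = j + 1 := ⟨i - 1, by lia⟩
  exact (Q (j + 1)).prop_X₂_of_exact (hS.homology_exact₁ j (j + 1) (by simp))
    (h₁ _ _ (h₃ j)) (h₀ _ _ (h₂ (j + 1)))

/-- `θ : K ⟶ K` epi: the cohomology of `ker θ`. -/
theorem kernel_step (P Q : ℤ → ObjectProperty C) [∀ i, (Q i).IsSerreClass]
    (h₀ : ∀ i, P i ≤ Q i) (h₁ : ∀ i, P i ≤ Q (i + 1))
    (K : CochainComplex C ℤ) (θ : K ⟶ K) [Epi θ] (h : ∀ i, P i (K.homology i)) (i : ℤ) :
    Q i ((kernel θ).homology i) :=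
  step_of_shortExact P Q h₀ h₁
    (S := ShortComplex.mk (kernel.ι θ) θ (kernel.condition θ))
    { exact := ShortComplex.exact_kernel θ
      mono_f := by dsimp; infer_instance
      epi_g := by dsimp; infer_instance } h h i

/-- the chain: complexes `K 0, K 1, …, K r` with `0 ⟶ K (k+1) ⟶ K k ⟶ K k ⟶ 0` short exact
for `k < r`. Serre class version (no vanishing). -/
theorem chain_serre (P : ObjectProperty C) [P.IsSerreClass] (r : ℕ)
    (K : ℕ → CochainComplex C ℤ) (f : ∀ k, K (k + 1) ⟶ K k) (g : ∀ k, K k ⟶ K k)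
    (w : ∀ k, f k ≫ g k = 0) (hS : ∀ k < r, (ShortComplex.mk (f k) (g k) (w k)).ShortExact)
    (h : ∀ i, P ((K 0).homology i)) (i : ℤ) : P ((K r).homology i) := by
  induction r generalizing i with
  | zero => exact h i
  | succ r ih =>
    have ih' := fun i => ih (fun k hk => hS k (by lia)) i
    exact step_of_shortExact (fun _ => P) (fun _ => P) (fun _ => le_rfl) (fun _ => le_rfl)
      (hS r (by lia)) ih' ih' i

/-- the class `IsZero` in degrees `> b`, everything in degrees `≤ b`. -/
def vanAbove (C : Type u) [Category.{v} C] [Abelian C] (b i : ℤ) : ObjectProperty C :=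
  if b < i then IsZero else ⊤

instance (b i : ℤ) : (vanAbove C b i).IsSerreClass := by
  unfold vanAbove; split_ifs <;> infer_instance

theorem vanAbove_iff (b i : ℤ) (X : C) : vanAbove C b i X ↔ (b < i → IsZero X) := by
  unfold vanAbove; split_ifs with h <;> simp [h]

/-- the chain, vanishing version: `H^i (K 0) = 0` for `i > b` implies `H^i (K r) = 0` for
`i > b + r`. -/
theorem chain_isZero (b : ℤ) (r : ℕ)
    (K : ℕ → CochainComplex C ℤ) (f : ∀ k, K (k + 1) ⟶ K k) (g : ∀ k, K k ⟶ K k)
    (w : ∀ k, f k ≫ g k = 0) (hS : ∀ k < r, (ShortComplex.mk (f k) (g k) (w k)).ShortExact)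
    (h : ∀ i, b < i → IsZero ((K 0).homology i)) (i : ℤ) (hi : b + r < i) :
    IsZero ((K r).homology i) := by
  induction r generalizing i with
  | zero => exact h i (by simpa using hi)
  | succ r ih =>
    have ih' : ∀ i, vanAbove C (b + r) i ((K r).homology i) := fun i =>
      (vanAbove_iff _ _ _).2 fun hi => ih (fun k hk => hS k (by lia)) i hi
    have := step_of_shortExact (fun i => vanAbove C (b + r) i)
      (fun i => vanAbove C (b + (r + 1 : ℕ)) i)
      (fun i X hX => (vanAbove_iff _ _ _).2 fun hi =>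
        (vanAbove_iff _ _ _).1 hX (by push_cast at hi; lia))
      (fun i X hX => (vanAbove_iff _ _ _).2 fun hi =>
        (vanAbove_iff _ _ _).1 hX (by push_cast at hi; lia))
      (hS r (by lia)) ih' ih' i
    exact (vanAbove_iff _ _ _).1 this hi

end Groth.Agent.ResProp.EF.K350
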